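import Mathlib.LinearAlgebra.QuadraticForm.Basic
import Mathlib.LinearAlgebra.Matrix.BilinearForm
import Mathlib.LinearAlgebra.Matrix.Rank
import Mathlib.LinearAlgebra.Matrix.ToLinearEquiv
import Mathlib.LinearAlgebra.Matrix.Nondegenerate
import Mathlib.LinearAlgebra.LinearIndependent.Lemmas
import Mathlib.Algebra.MvPolynomial.Funext
import Mathlib.Algebra.MvPolynomial.NoZeroDivisors
import Mathlib.Algebra.MvPolynomial.PDeriv
import Mathlib.Algebra.MvPolynomial.Nilpotent
import Mathlib.RingTheory.MvPolynomial.Homogeneous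
import Mathlib.FieldTheory.IsAlgClosed.Basic
import Mathlib.Algebra.CharP.Invertible
import Mathlib.LinearAlgebra.FiniteDimensional.Lemmas

/-! Plane conics through their symmetric matrices. -/

noncomputable section

universe u

open Matrix MvPolynomial

namespace Groth.Agent.PlaneConic98

variable {k : Type u} [Field k]

/-- The linear form with the given coefficients. -/
def lin (a : Fin 3 → k) : MvPolynomial (Fin 3) k := ∑ i : Fin 3, a i • X i

theorem eval_lin (a u : Fin 3 → k) : eval u (lin a) = a ⬝ᵥ u := by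
  simp [lin, dotProduct, smul_eval]

theorem isHomogeneous_lin (a : Fin 3 → k) : (lin a).IsHomogeneous 1 :=
  IsHomogeneous.sum _ _ _ fun i _ => (mem_homogeneousSubmodule 1 _).1
    (Submodule.smul_mem _ _ ((mem_homogeneousSubmodule 1 _).2 (isHomogeneous_X k i)))

theorem exists_lin {p : MvPolynomial (Fin 3) k} (hp : p.IsHomogeneous 1) : ∃ a, p = lin a := by
  rw [← mem_homogeneousSubmodule, homogeneousSubmodule_one_eq_span_X,
    Submodule.mem_span_range_iff_exists_fun] at hp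
  obtain ⟨a, ha⟩ := hp
  exact ⟨a, ha.symm⟩

theorem lin_injective : Function.Injective (lin (k := k)) := fun a b h => funext fun i => by
  have := congrArg (eval (Pi.single i (1 : k))) h
  simpa [eval_lin, dotProduct_single] using this

/-- The quadratic form of a matrix. -/
def quad (Q : Matrix (Fin 3) (Fin 3) k) : MvPolynomial (Fin 3) k :=
  ∑ i : Fin 3, ∑ j : Fin 3, Q i j • (X i * X j)

theorem eval_quad (Q : Matrix (Fin 3) (Fin 3) k) (u : Fin 3 → k) :
    eval u (quad Q) = u ⬝ᵥ (Q *ᵥ u) := by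
  simp [quad, dotProduct, mulVec, smul_eval, Finset.mul_sum]
  exact Finset.sum_congr rfl fun i _ => Finset.sum_congr rfl fun j _ => by ring

theorem isHomogeneous_quad (Q : Matrix (Fin 3) (Fin 3) k) : (quad Q).IsHomogeneous 2 :=
  IsHomogeneous.sum _ _ _ fun i _ => IsHomogeneous.sum _ _ _ fun j _ =>
    (mem_homogeneousSubmodule 2 _).1 (Submodule.smul_mem _ _
      ((mem_homogeneousSubmodule 2 _).2 ((isHomogeneous_X k i).mul (isHomogeneous_X k j))))

theorem eval_pderiv_quad {Q : Matrix (Fin 3) (Fin 3) k} (hQ : Q.IsSymm) (u : Fin 3 → k)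
    (i : Fin 3) : eval u (pderiv i (quad Q)) = 2 * (Q *ᵥ u) i := by
  have hs : ∀ a b, Q b a = Q a b := fun a b => hQ.apply a b
  simp [quad, mulVec, dotProduct, Fin.sum_univ_three, pderiv_X, smul_eval]
  fin_cases i <;> simp [hs 0 1, hs 0 2, hs 1 2] <;> ring

theorem eq_sym_of_eq_mul (h2 : (2 : k) ≠ 0) {Q : Matrix (Fin 3) (Fin 3) k} (hQ : Q.IsSymm) {a b : Fin 3 → k}
    (h : quad Q = lin a * lin b) (u : Fin 3 → k) :
    (2 : k) • (Q *ᵥ u) = (b ⬝ᵥ u) • a + (a ⬝ᵥ u) • b := by
  have H : ∀ v, v ⬝ᵥ (Q *ᵥ v) = (a ⬝ᵥ v) * (b ⬝ᵥ v) := fun v => by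
    rw [← eval_quad, h, map_mul, eval_lin, eval_lin]
  refine dotProduct_eq _ _ fun v => ?_
  have hsym : u ⬝ᵥ (Q *ᵥ v) = (Q *ᵥ u) ⬝ᵥ v := by
    rw [dotProduct_mulVec, ← mulVec_transpose, hQ.eq]
  have := H (u + v)
  simp only [mulVec_add, dotProduct_add, add_dotProduct, H, hsym] at this
  rw [dotProduct_comm v (Q *ᵥ u)] at this
  simp only [smul_dotProduct, add_dotProduct, smul_eq_mul]
  linear_combination this

theorem rank_le_two_of_eq_mul (h2 : (2 : k) ≠ 0) {Q : Matrix (Fin 3) (Fin 3) k} (hQ : Q.IsSymm)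
    {a b : Fin 3 → k} (h : quad Q = lin a * lin b) :
    LinearMap.range Q.mulVecLin ≤ Submodule.span k (Set.range ![a, b]) := by
  rintro _ ⟨u, rfl⟩
  have ha : a ∈ Submodule.span k (Set.range ![a, b]) := Submodule.subset_span ⟨0, rfl⟩
  have hb : b ∈ Submodule.span k (Set.range ![a, b]) := Submodule.subset_span ⟨1, rfl⟩
  have := Submodule.add_mem _ (Submodule.smul_mem _ (b ⬝ᵥ u) ha) (Submodule.smul_mem _ (a ⬝ᵥ u) hb)
  rw [← eq_sym_of_eq_mul h2 hQ h u] at this
  exact (Submodule.smul_mem_iff _ h2).1 this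

theorem exists_dual {a b : Fin 3 → k} (h : LinearIndependent k ![a, b]) (x y : k) :
    ∃ u, a ⬝ᵥ u = x ∧ b ⬝ᵥ u = y := by
  have := h.rank_matrix (M := ![a, b])
  have hsurj : Function.Surjective (Matrix.mulVecLin (Matrix.of ![a, b])) := by
    rw [← LinearMap.range_eq_top]
    apply Submodule.eq_top_of_finrank_eq
    rw [Module.finrank_fin_fun]
    exact this
  obtain ⟨u, hu⟩ := hsurj ![x, y]
  exact ⟨u, congrFun hu 0, congrFun hu 1⟩

theorem rank_eq_two_of_eq_mul (h2 : (2 : k) ≠ 0) {Q : Matrix (Fin 3) (Fin 3) k} (hQ : Q.IsSymm)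
    {a b : Fin 3 → k} (hab : LinearIndependent k ![a, b]) (h : quad Q = lin a * lin b) :
    Q.rank = 2 := by
  have e : LinearMap.range Q.mulVecLin = Submodule.span k (Set.range ![a, b]) := by
    refine le_antisymm (rank_le_two_of_eq_mul h2 hQ h) (Submodule.span_le.2 ?_)
    rintro _ ⟨i, rfl⟩
    obtain ⟨u, hu⟩ := exists_dual hab 0 2
    obtain ⟨v, hv⟩ := exists_dual hab 2 0
    fin_cases i
    · refine ⟨u, smul_right_injective _ h2 ?_⟩
      show (2 : k) • (Q *ᵥ u) = (2 : k) • a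
      rw [eq_sym_of_eq_mul h2 hQ h, hu.1, hu.2]; simp
    · refine ⟨v, smul_right_injective _ h2 ?_⟩
      show (2 : k) • (Q *ᵥ v) = (2 : k) • b
      rw [eq_sym_of_eq_mul h2 hQ h, hv.1, hv.2]; simp
  show Module.finrank k (LinearMap.range Q.mulVecLin) = 2
  rw [e, finrank_span_eq_card hab, Fintype.card_fin]

theorem rank_eq_one_of_eq_sq (h2 : (2 : k) ≠ 0) {Q : Matrix (Fin 3) (Fin 3) k} (hQ : Q.IsSymm)
    (hQ0 : Q ≠ 0) {a : Fin 3 → k} (h : quad Q = lin a * lin a) : Q.rank = 1 := by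
  have e : LinearMap.range Q.mulVecLin ≤ Submodule.span k {a} :=
    (rank_le_two_of_eq_mul h2 hQ h).trans (Submodule.span_mono (by
      rintro _ ⟨i, rfl⟩; fin_cases i <;> simp))
  have ha : a ≠ 0 := by
    rintro rfl
    refine hQ0 (Matrix.toLin'.injective (LinearMap.ext fun u => smul_right_injective _ h2 ?_))
    rw [map_zero]
    show (2 : k) • (Q *ᵥ u) = (2 : k) • (0 : Fin 3 → k)
    rw [eq_sym_of_eq_mul h2 hQ h]; simp
  have h1 : Q.rank ≤ 1 := (Submodule.finrank_mono e).trans (le_of_eq (finrank_span_singleton ha))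
  have h0 : Q.rank ≠ 0 := fun h0 => by
    have : LinearMap.range Q.mulVecLin = ⊥ := Submodule.finrank_eq_zero.1 h0
    rw [LinearMap.range_eq_bot] at this
    exact hQ0 (Matrix.toLin'.injective (by rw [map_zero]; exact this))
  omega

theorem det_eq_zero_of_eq_mul (h2 : (2 : k) ≠ 0) {Q : Matrix (Fin 3) (Fin 3) k} (hQ : Q.IsSymm)
    {a b : Fin 3 → k} (h : quad Q = lin a * lin b) : Q.det = 0 := by
  by_contra hdet
  have h3 : Q.rank = 3 := by
    rw [rank_of_isUnit _ ((Matrix.isUnit_iff_isUnit_det Q).2 (isUnit_iff_ne_zero.2 hdet)),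
      Fintype.card_fin]
  have := (Submodule.finrank_mono (rank_le_two_of_eq_mul h2 hQ h)).trans
    (finrank_range_le_card ![a, b])
  rw [Fintype.card_fin] at this
  change Q.rank ≤ 2 at this
  omega

theorem exists_eq_lin_mul_of_mul {Q : Matrix (Fin 3) (Fin 3) k} {g h : MvPolynomial (Fin 3) k}
    (e : quad Q = g * h) (hg : g.totalDegree ≤ 1) (hh : h.totalDegree ≤ 1) :
    ∃ a b, quad Q = lin a * lin b := by
  obtain ⟨a, ha⟩ := exists_lin (homogeneousComponent_isHomogeneous 1 g)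
  obtain ⟨b, hb⟩ := exists_lin (homogeneousComponent_isHomogeneous 1 h)
  refine ⟨a, b, ?_⟩
  rw [← ha, ← hb]
  have hsplit : ∀ p : MvPolynomial (Fin 3) k, p.totalDegree ≤ 1 →
      p = homogeneousComponent 0 p + homogeneousComponent 1 p := fun p hp => by
    conv_lhs => rw [← sum_homogeneousComponent p]
    rcases Nat.le_one_iff_eq_zero_or_eq_one.1 hp with h0 | h1
    · rw [h0, Finset.sum_range_one, homogeneousComponent_eq_zero 1 p (by omega), add_zero]
    · rw [h1, Finset.sum_range_succ, Finset.sum_range_one]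
  have key := congrArg (homogeneousComponent 2) e
  rw [homogeneousComponent_of_mem ((mem_homogeneousSubmodule 2 _).2 (isHomogeneous_quad Q)),
    if_pos rfl] at key
  rw [key]
  conv_lhs => rw [hsplit g hg, hsplit h hh]
  have hm : ∀ i j, homogeneousComponent 2 (homogeneousComponent i g * homogeneousComponent j h) =
      if i + j = 2 then homogeneousComponent i g * homogeneousComponent j h else 0 := fun i j => by
    rw [homogeneousComponent_of_mem ((mem_homogeneousSubmodule _ _).2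
      ((homogeneousComponent_isHomogeneous i g).mul (homogeneousComponent_isHomogeneous j h)))]
    simp only [eq_comm]
  rw [add_mul, mul_add, mul_add, map_add, map_add, map_add, hm, hm, hm, hm]
  simp

theorem exists_lin_mul_of_det_eq_zero [IsAlgClosed k] [CharZero k]
    {Q : Matrix (Fin 3) (Fin 3) k} (hQ : Q.IsSymm) (hdet : Q.det = 0) :
    ∃ a b, quad Q = lin a * lin b := by
  classical
  haveI : Invertible (2 : k) := invertibleOfNonzero two_ne_zero
  obtain ⟨v, hv⟩ := LinearMap.BilinForm.exists_orthogonal_basis (B := Matrix.toBilin' Q) (by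
    refine ⟨fun x y => ?_⟩
    simp only [Matrix.toBilin'_apply']
    rw [dotProduct_mulVec, ← mulVec_transpose, hQ.eq, dotProduct_comm]
    rfl)
  have hdim : Module.finrank k (Fin 3 → k) = 3 := Module.finrank_fin_fun k
  let w := v.reindex (finCongr hdim)
  have hw : ∀ i j, i ≠ j → w i ⬝ᵥ (Q *ᵥ w j) = 0 := fun i j hij => by
    rw [← Matrix.toBilin'_apply']
    simp only [w, Module.Basis.reindex_apply]
    exact hv (fun e => hij ((finCongr hdim).symm.injective e))
  let d : Fin 3 → k := fun i => w i ⬝ᵥ (Q *ᵥ w i)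
  let c : Fin 3 → (Fin 3 → k) := fun i j => w.repr (Pi.single j 1) i
  have hc : ∀ i u, c i ⬝ᵥ u = w.repr u i := fun i u => by
    conv_rhs => rw [pi_eq_sum_univ' u]
    simp only [map_sum, map_smul, Finsupp.finsetSum_apply, Finsupp.smul_apply, dotProduct, c,
      smul_eq_mul, mul_comm]
  have hval : ∀ i u, w i ⬝ᵥ (Q *ᵥ u) = w.repr u i * d i := fun i u => by
    conv_lhs => rw [← w.sum_repr u]
    rw [mulVec_sum, dotProduct_sum, Finset.sum_eq_single i]
    · rw [mulVec_smul, dotProduct_smul, smul_eq_mul]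
    · intro j _ hji; rw [mulVec_smul, dotProduct_smul, hw i j (Ne.symm hji), smul_zero]
    · simp
  have hf : ∀ u, eval u (quad Q) = ∑ i, d i * (c i ⬝ᵥ u) ^ 2 := fun u => by
    rw [eval_quad]
    conv_lhs => arg 1; rw [← w.sum_repr u]
    rw [sum_dotProduct]
    refine Finset.sum_congr rfl fun i _ => ?_
    rw [smul_dotProduct, smul_eq_mul, hval, hc]
    ring
  obtain ⟨i₀, hi₀⟩ : ∃ i, d i = 0 := by
    by_contra hn
    push Not at hn
    obtain ⟨u, hu0, hu⟩ := Matrix.exists_mulVec_eq_zero_iff.2 hdet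
    refine hu0 (w.repr.injective (Finsupp.ext fun i => ?_))
    have := hval i u
    rw [hu, dotProduct_zero] at this
    rw [map_zero, Finsupp.zero_apply]
    exact (mul_eq_zero.1 this.symm).resolve_right (hn i)
  obtain ⟨s₁, s₂, hsum⟩ : ∃ i j : Fin 3, ∀ F : Fin 3 → k, F i₀ = 0 → ∑ m, F m = F i + F j := by
    fin_cases i₀
    exacts [⟨1, 2, fun F h => by simp [Fin.sum_univ_three] at h ⊢; simp [h]⟩,
      ⟨0, 2, fun F h => by simp [Fin.sum_univ_three] at h ⊢; simp [h]⟩,
      ⟨0, 1, fun F h => by simp [Fin.sum_univ_three] at h ⊢; simp [h]⟩]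
  obtain ⟨r₁, hr₁⟩ := IsAlgClosed.exists_pow_nat_eq (d s₁) two_pos
  obtain ⟨r₂, hr₂⟩ := IsAlgClosed.exists_pow_nat_eq (-d s₂) two_pos
  refine ⟨r₁ • c s₁ + r₂ • c s₂, r₁ • c s₁ - r₂ • c s₂, MvPolynomial.funext fun u => ?_⟩
  rw [hf, hsum (fun m => d m * (c m ⬝ᵥ u) ^ 2) (by simp [hi₀]), map_mul, eval_lin, eval_lin,
    add_dotProduct, sub_dotProduct, smul_dotProduct, smul_dotProduct, smul_eq_mul, smul_eq_mul,
    ← hr₁, ← neg_eq_iff_eq_neg.2 hr₂]
  ring

/-- A rank three conic vanishes on no pair of lines. -/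
theorem not_mul_of_diag [CharZero k] (a b : Fin 3 → k)
    (h : ∀ u : Fin 3 → k, -(u 0) ^ 2 - u 1 * u 2 = (a ⬝ᵥ u) * (b ⬝ᵥ u)) : False := by
  have hex : ∃ u : Fin 3 → k, u ≠ 0 ∧ a ⬝ᵥ u = 0 ∧ b ⬝ᵥ u = 0 := by
    have hk : LinearMap.ker (Matrix.mulVecLin (Matrix.of ![a, b])) ≠ ⊥ := fun hb => by
      have := LinearMap.finrank_le_finrank_of_injective (LinearMap.ker_eq_bot.1 hb)
      simp [Module.finrank_fin_fun] at this
    obtain ⟨u, hu, hu0⟩ := Submodule.exists_mem_ne_zero_of_ne_bot hk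
    exact ⟨u, hu0, congrFun hu 0, congrFun hu 1⟩
  obtain ⟨u, hu0, ha, hb⟩ := hex
  have key : ∀ v : Fin 3 → k, 2 * u 0 * v 0 + u 1 * v 2 + v 1 * u 2 = 0 := fun v => by
    have h1 := h (u + v)
    have h2 := h u
    have h3 := h v
    simp only [dotProduct_add, Pi.add_apply, ha, hb, zero_add, mul_zero] at h1 h2
    linear_combination -h1 + h2 + h3
  refine hu0 (_root_.funext fun i => ?_)
  have k0 := key ![1, 0, 0]
  have k1 := key ![0, 1, 0]
  have k2 := key ![0, 0, 1]
  fin_cases i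
  · simpa using k0
  · simpa using k2
  · simpa using k1

end Groth.Agent.PlaneConic98
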