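import Groth.Agent.PlaneConic98.Basic
import Mathlib.LinearAlgebra.Matrix.GeneralLinearGroup.Defs
import Mathlib.LinearAlgebra.Matrix.NonsingularInverse
import Mathlib.LinearAlgebra.FiniteDimensional.Basic

/-! Determinantal conics of two by two matrices of linear forms. -/

noncomputable section

universe u

open Matrix MvPolynomial

namespace Groth.Agent.PlaneConic98

variable {k : Type u} [Field k]

/-- A linear relation among the four entries of a matrix of linear forms. -/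
def IsRel (m : Fin 2 → Fin 2 → Fin 3 → k) (c : Matrix (Fin 2) (Fin 2) k) : Prop :=
  ∑ a, ∑ b, c a b • m a b = 0

theorem IsRel.eval {m : Fin 2 → Fin 2 → Fin 3 → k} {c : Matrix (Fin 2) (Fin 2) k} (h : IsRel m c)
    (u : Fin 3 → k) : c 0 0 * (m 0 0 ⬝ᵥ u) + c 0 1 * (m 0 1 ⬝ᵥ u) +
      (c 1 0 * (m 1 0 ⬝ᵥ u) + c 1 1 * (m 1 1 ⬝ᵥ u)) = 0 := by
  have := congrArg (· ⬝ᵥ u) h
  simpa [Fin.sum_univ_two, add_dotProduct, smul_dotProduct] using this

theorem exists_rel (m : Fin 2 → Fin 2 → Fin 3 → k) : ∃ c, c ≠ 0 ∧ IsRel m c := by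
  let T : Matrix (Fin 2) (Fin 2) k →ₗ[k] Fin 3 → k :=
    { toFun := fun c => ∑ a, ∑ b, c a b • m a b
      map_add' := fun c d => by simp [add_smul, Finset.sum_add_distrib]
      map_smul' := fun s c => by simp [smul_smul, Finset.smul_sum] }
  have hk : LinearMap.ker T ≠ ⊥ := fun hb => by
    have := LinearMap.finrank_le_finrank_of_injective (LinearMap.ker_eq_bot.1 hb)
    simp [Module.finrank_matrix] at this
  obtain ⟨c, hc, hc0⟩ := Submodule.exists_mem_ne_zero_of_ne_bot hk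
  exact ⟨c, hc0, hc⟩

theorem exists_row {u : Fin 2 → k} (hu : u ≠ 0) : ∃ g : GL (Fin 2) k, g.val 0 = u := by
  by_cases h : u 0 = 0
  · have h1 : u 1 ≠ 0 := fun h1 => hu (_root_.funext fun i => by fin_cases i <;> assumption)
    refine ⟨Matrix.GeneralLinearGroup.mkOfDetNeZero !![u 0, u 1; 1, 0]
      (by simp [Matrix.det_fin_two, h1]), ?_⟩
    ext i; fin_cases i <;> rfl
  · refine ⟨Matrix.GeneralLinearGroup.mkOfDetNeZero !![u 0, u 1; 0, 1]
      (by simp [Matrix.det_fin_two, h]), ?_⟩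
    ext i; fin_cases i <;> rfl

theorem exists_outer {c : Matrix (Fin 2) (Fin 2) k} (hc0 : c ≠ 0) (hd : c.det = 0) :
    ∃ g h : GL (Fin 2) k, ∀ a b, g.val 0 a * h.val b 1 = c a b := by
  obtain ⟨i, j, hij⟩ : ∃ i j, c i j ≠ 0 := by
    by_contra hn
    push Not at hn
    exact hc0 (Matrix.ext hn)
  obtain ⟨g, hg⟩ := exists_row (u := fun a => c a j / c i j) fun h =>
    one_ne_zero ((div_self hij).symm.trans (congrFun h i))
  have hv : (c i) ≠ 0 := fun h => hij (congrFun h j)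
  obtain ⟨h', hh'⟩ := exists_row (u := c i) hv
  refine ⟨g, Matrix.GeneralLinearGroup.mkOfDetNeZero
    (Matrix.of fun b a => h'.val (Equiv.swap 0 1 a) b) ?_, fun a b => ?_⟩
  · have h1 : h'.val.det ≠ 0 := ((Matrix.isUnit_iff_isUnit_det _).1 h'.isUnit).ne_zero
    intro h0
    refine h1 ?_
    simp [Matrix.det_fin_two] at h0 ⊢
    linear_combination -h0
  · rw [Matrix.det_fin_two] at hd
    show g.val 0 a * h'.val (Equiv.swap 0 1 1) b = c a b
    rw [Equiv.swap_apply_right, congrFun hg a, congrFun hh' b, div_mul_eq_mul_div, div_eq_iff hij]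
    fin_cases a <;> fin_cases b <;> fin_cases i <;> fin_cases j <;> simp at hij ⊢ <;>
      first | ring1 | linear_combination hd | linear_combination -hd

/-- If no relation is degenerate, the relations form a line. -/
theorem exists_smul_eq [IsAlgClosed k] (h2 : (2 : k) ≠ 0) {m : Fin 2 → Fin 2 → Fin 3 → k}
    (hdet : ∀ c, c ≠ 0 → IsRel m c → c.det ≠ 0) {c d : Matrix (Fin 2) (Fin 2) k} (hc0 : c ≠ 0)
    (hc : IsRel m c) (hd : IsRel m d) : ∃ s : k, d = s • c := by
  have hA := hdet c hc0 hc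
  rw [Matrix.det_fin_two] at hA
  set A := c 0 0 * c 1 1 - c 0 1 * c 1 0 with hAdef
  set B := d 0 0 * c 1 1 + d 1 1 * c 0 0 - d 0 1 * c 1 0 - d 1 0 * c 0 1 with hBdef
  set D := d 0 0 * d 1 1 - d 0 1 * d 1 0 with hDdef
  obtain ⟨r, hr⟩ := IsAlgClosed.exists_pow_nat_eq (B ^ 2 - 4 * A * D) two_pos
  refine ⟨(B + r) / (2 * A), ?_⟩
  by_contra hne
  refine hdet (d - ((B + r) / (2 * A)) • c) (sub_ne_zero.2 hne) ?_ ?_
  · unfold IsRel at *
    simp only [Matrix.sub_apply, Matrix.smul_apply, sub_smul, smul_assoc, Finset.sum_sub_distrib,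
      ← Finset.smul_sum, hc, hd, smul_zero, sub_zero]
  · have key : A * ((B + r) / (2 * A)) ^ 2 - B * ((B + r) / (2 * A)) + D = 0 := by
      field_simp
      linear_combination hr
    rw [Matrix.det_fin_two]
    simp only [Matrix.sub_apply, Matrix.smul_apply, smul_eq_mul]
    rw [hAdef, hBdef, hDdef] at key
    rw [hAdef, hBdef]
    linear_combination key

theorem exists_equiv_zero [IsAlgClosed k] [CharZero k] (m : Fin 2 → Fin 2 → Fin 3 → k)
    (l₁ l₂ : Fin 3 → k) (h : ∀ u, (m 0 0 ⬝ᵥ u) * (m 1 1 ⬝ᵥ u) - (m 0 1 ⬝ᵥ u) * (m 1 0 ⬝ᵥ u) =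
      (l₁ ⬝ᵥ u) * (l₂ ⬝ᵥ u)) :
    ∃ g h : GL (Fin 2) k, ∀ u, ∑ a, ∑ b, g.val 0 a * h.val b 1 * (m a b ⬝ᵥ u) = 0 := by
  by_cases hdeg : ∃ c, c ≠ 0 ∧ IsRel m c ∧ c.det = 0
  · obtain ⟨c, hc0, hc, hd⟩ := hdeg
    obtain ⟨g, g', hg⟩ := exists_outer hc0 hd
    exact ⟨g, g', fun u => by simpa [Fin.sum_univ_two, hg] using hc.eval u⟩
  · exfalso
    push Not at hdeg
    obtain ⟨c, hc0, hc⟩ := exists_rel m
    have hcdet := hdeg c hc0 hc
    let P : Matrix (Fin 3) (Fin 3) k := Matrix.of ![c 0 0 • m 0 0 + c 0 1 • m 0 1,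
      c 1 0 • m 0 0 + c 1 1 • m 0 1, c 0 0 • m 1 0 + c 0 1 • m 1 1]
    have hP : IsUnit P := by
      refine Matrix.linearIndependent_rows_iff_isUnit.1 (Fintype.linearIndependent_iff.2 ?_)
      intro w hw
      have hw' : w 0 • (c 0 0 • m 0 0 + c 0 1 • m 0 1) + w 1 • (c 1 0 • m 0 0 + c 1 1 • m 0 1) +
          w 2 • (c 0 0 • m 1 0 + c 0 1 • m 1 1) = 0 := by
        rw [Fin.sum_univ_three] at hw
        exact hw
      obtain ⟨s, hs⟩ := exists_smul_eq two_ne_zero hdeg (d := !![w 0, w 1; w 2, 0] * c) hc0 hc (by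
        unfold IsRel
        simp only [Fin.sum_univ_two, Matrix.mul_apply]
        rw [← hw']
        simp only [Matrix.cons_val', Matrix.cons_val_zero, Matrix.cons_val_one, Matrix.of_apply,
          Matrix.empty_val', Matrix.cons_val_fin_one]
        module)
      have hu : IsUnit c := (Matrix.isUnit_iff_isUnit_det c).2 (isUnit_iff_ne_zero.2 hcdet)
      have hD : !![w 0, w 1; w 2, 0] = s • (1 : Matrix (Fin 2) (Fin 2) k) :=
        hu.mul_right_cancel (by rw [hs, smul_mul_assoc, one_mul])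
      have e00 := congrFun (congrFun hD 0) 0
      have e01 := congrFun (congrFun hD 0) 1
      have e10 := congrFun (congrFun hD 1) 0
      have e11 := congrFun (congrFun hD 1) 1
      simp at e00 e01 e10 e11
      intro i
      fin_cases i
      · exact e00.trans e11.symm
      · exact e01
      · exact e10
    have hP' : P.det ≠ 0 := ((Matrix.isUnit_iff_isUnit_det P).1 hP).ne_zero
    refine not_mul_of_diag (c.det • (l₁ ᵥ* P⁻¹)) (l₂ ᵥ* P⁻¹) fun w => ?_
    obtain ⟨u, rfl⟩ : ∃ u, P *ᵥ u = w :=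
      ⟨P⁻¹ *ᵥ w, by rw [mulVec_mulVec, Matrix.mul_nonsing_inv _ (isUnit_iff_ne_zero.2 hP'), one_mulVec]⟩
    rw [smul_dotProduct, ← dotProduct_mulVec, ← dotProduct_mulVec, mulVec_mulVec,
      Matrix.nonsing_inv_mul _ (isUnit_iff_ne_zero.2 hP'), one_mulVec, smul_eq_mul, mul_assoc,
      ← h u, Matrix.det_fin_two]
    simp only [P, mulVec, Matrix.of_apply, Matrix.cons_val_zero, Matrix.cons_val_one,
      Matrix.cons_val_two, Matrix.tail_cons, Matrix.head_cons, add_dotProduct, smul_dotProduct,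
      smul_eq_mul, Matrix.cons_val]
    linear_combination -(c 0 0 * (m 0 0 ⬝ᵥ u) + c 0 1 * (m 0 1 ⬝ᵥ u)) * hc.eval u

end Groth.Agent.PlaneConic98
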